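import Groth.Agent.Lib.VarDim.Normal
import Groth.Prelude.Def_Pi1
import Mathlib.AlgebraicGeometry.Normalization
import Mathlib.RingTheory.Localization.Integral

/-!
# Normalizations in normal integral schemes are normal
-/

set_option autoImplicit false
set_option linter.style.haveILetI false
set_option backward.isDefEq.respectTransparency.types false

universe u

open CategoryTheory Limits AlgebraicGeometry

namespace Groth.Agent.NeronEt19

theorem isIntegrallyClosed_of_tower {A B K : Type u} [CommRing A] [CommRing B] [Field K] [IsDomain B] [IsIntegrallyClosed B]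
    [Algebra B K] [IsFractionRing B K] (C : Type u) [CommRing C] [IsDomain C] [Algebra A B] [Algebra A C] [Algebra C B] [IsScalarTower A C B] [Algebra.IsIntegral A C]
    (hinj : Function.Injective (algebraMap C B)) (h : ∀ b : B, IsIntegral A b → b ∈ (algebraMap C B).range) :
    IsIntegrallyClosed C := by
  refine (isIntegrallyClosed_iff (FractionRing C)).2 fun {x} hx => ?_
  let g := (algebraMap B K).comp (algebraMap C B)
  have hg : Function.Injective g := (IsFractionRing.injective B K).comp hinj
  let ψ : FractionRing C →+* K := IsFractionRing.lift hg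
  have hψ : ψ.comp (algebraMap C (FractionRing C)) = g :=
    RingHom.ext fun c => IsFractionRing.lift_algebraMap hg c
  obtain ⟨p, hp, hpx⟩ := hx
  have h1 : IsIntegral B (ψ x) := by
    refine ⟨p.map (algebraMap C B), hp.map _, ?_⟩
    rw [Polynomial.eval₂_map, show (algebraMap B K).comp (algebraMap C B) = g from rfl, ← hψ,
      ← Polynomial.hom_eval₂, hpx, map_zero]
  obtain ⟨b, hb⟩ := IsIntegrallyClosed.isIntegral_iff.1 h1
  have h2 : IsIntegral C b := by
    refine ⟨p, hp, IsFractionRing.injective B K ?_⟩
    rw [map_zero, Polynomial.hom_eval₂, hb, show (algebraMap B K).comp (algebraMap C B) = g from rfl, ← hψ,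
      ← Polynomial.hom_eval₂, hpx, map_zero]
  obtain ⟨c, rfl⟩ := h b (isIntegral_trans b h2)
  exact ⟨c, ψ.injective ((RingHom.congr_fun hψ c).trans hb)⟩

theorem isIntegrallyClosed_integralClosure {A B : Type u} [CommRing A] [CommRing B] [IsDomain B] [IsIntegrallyClosed B]
    [Algebra A B] : IsIntegrallyClosed (integralClosure A B) :=
  isIntegrallyClosed_of_tower (A := A) (B := B) (K := FractionRing B) _ Subtype.val_injective
    fun b hb => ⟨⟨b, hb⟩, rfl⟩

/-- The normalization of a scheme in a normal integral scheme is normal. -/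
theorem isNormalScheme_normalization {X S : Scheme.{u}} (f : X ⟶ S) [QuasiCompact f] [QuasiSeparated f]
    [IsIntegral X] (hX : ∀ x : X, IsIntegrallyClosed (X.presheaf.stalk x)) :
    Pi1.IsNormalScheme f.normalization := by
  intro t
  refine ⟨inferInstance, ?_⟩
  obtain ⟨U, hU, htU, -⟩ :=
    exists_isAffineOpen_mem_and_subset (X := S) (x := f.fromNormalization t) (U := ⊤) trivial
  let V : f.normalization.Opens := f.fromNormalization ⁻¹ᵁ U
  have hV : IsAffineOpen V := hU.preimage _
  haveI : Nonempty V := ⟨⟨t, htU⟩⟩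
  haveI : Nonempty (f ⁻¹ᵁ U : X.Opens) := by
    obtain ⟨_, hx, ⟨x, rfl⟩⟩ := f.toNormalization.denseRange.inter_open_nonempty _ V.2 ⟨t, htU⟩
    refine ⟨⟨x, ?_⟩⟩
    show f x ∈ U
    rw [← f.toNormalization_fromNormalization]
    exact hx
  letI := (f.app U).hom.toAlgebra
  haveI : IsIntegrallyClosed Γ(X, f ⁻¹ᵁ U) := VarDim.isIntegrallyClosed_sections hX _
  haveI : IsIntegrallyClosed (integralClosure Γ(S, U) Γ(X, f ⁻¹ᵁ U)) := isIntegrallyClosed_integralClosure
  haveI : IsIntegrallyClosed Γ(f.normalization, V) :=
    IsIntegrallyClosed.of_equiv (f.normalizationObjIso hU).symm.commRingCatIsoToRingEquiv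
  let := f.normalization.presheaf.algebra_section_stalk (U := V) ⟨t, htU⟩
  haveI := hV.isLocalization_stalk ⟨t, htU⟩
  exact isIntegrallyClosed_of_isLocalization _ (hV.primeIdealOf ⟨t, htU⟩).asIdeal.primeCompl
    (Ideal.primeCompl_le_nonZeroDivisors _)

end Groth.Agent.NeronEt19
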