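import Groth.Agent.Lib.NormalExt19.Basic
import Groth.Agent.Lib.NeronElem.Basic
import Mathlib.RingTheory.Localization.BaseChange
import Mathlib.RingTheory.Flat.TorsionFree
import Mathlib.AlgebraicGeometry.Cover.Open

/-!
# Extending maps from generic fibres to integral affine schemes
-/

set_option autoImplicit false
set_option linter.style.haveILetI false
set_option backward.isDefEq.respectTransparency.types false

universe u

open CategoryTheory Limits AlgebraicGeometry
open scoped TensorProduct

namespace Groth.Agent.NeronEt19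

/-- A normal ring is integrally closed in its localisations at non-zero-divisors. -/
theorem exists_eq_of_isIntegral_localization {C CK : Type u} [CommRing C] [CommRing CK] [Algebra C CK]
    (M : Submonoid C) [IsLocalization M CK] (hC : EGA4.IsNormalRing C) (hM : M ≤ nonZeroDivisors C)
    {z : CK} (hz : IsIntegral C z) : ∃ c : C, algebraMap C CK c = z := by
  let I : Ideal C := Submodule.comap (LinearMap.toSpanSingleton C CK z) (Algebra.linearMap C CK).range
  suffices hI : (1 : C) ∈ I by
    obtain ⟨a, ha⟩ := hI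
    exact ⟨a, ha.trans (one_smul C z)⟩
  rw [← Ideal.eq_top_iff_one]
  by_contra htop
  obtain ⟨q, hqm, hIq⟩ := I.exists_le_maximal htop
  haveI := hqm.isPrime
  let D := Localization.AtPrime q
  haveI := (hC q).1
  haveI := (hC q).2
  let F := FractionRing D
  have hM0 : ∀ m : M, algebraMap D F (algebraMap C D m) ≠ 0 := by
    intro m h0
    obtain ⟨t, ht⟩ := (IsLocalization.map_eq_zero_iff q.primeCompl D (m : C)).1
      (IsFractionRing.injective D F (h0.trans (map_zero _).symm))
    exact t.2 ((mem_nonZeroDivisors_iff_right.1 (hM m.2) t ht) ▸ q.zero_mem)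
  let θ : CK →+* F := IsLocalization.lift (M := M) (g := (algebraMap D F).comp (algebraMap C D))
    fun m => (hM0 m).isUnit
  have hθ : ∀ c, θ (algebraMap C CK c) = algebraMap D F (algebraMap C D c) := fun c => IsLocalization.lift_eq _ c
  have hθ' : θ.comp (algebraMap C CK) = (algebraMap D F).comp (algebraMap C D) := RingHom.ext hθ
  obtain ⟨p, hp, hpz⟩ := hz
  have h1 : IsIntegral D (θ z) := by
    refine ⟨p.map (algebraMap C D), hp.map _, ?_⟩
    rw [Polynomial.eval₂_map, ← hθ', ← Polynomial.hom_eval₂, hpz, map_zero]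
  obtain ⟨d, hd⟩ := IsIntegrallyClosed.isIntegral_iff.1 h1
  obtain ⟨⟨a, t⟩, rfl⟩ := IsLocalization.mk'_surjective q.primeCompl d
  dsimp only at hd
  obtain ⟨⟨c, m⟩, rfl⟩ := IsLocalization.mk'_surjective M z
  dsimp only at hd
  have h2 : algebraMap C D (c * t) = algebraMap C D (a * m) := by
    refine IsFractionRing.injective D F ?_
    rw [map_mul, map_mul, map_mul, map_mul, ← hθ c, ← IsLocalization.mk'_spec CK c m, map_mul, hθ, ← hd,
      mul_right_comm, ← map_mul (algebraMap D F) (IsLocalization.mk' D a t), IsLocalization.mk'_spec]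
  obtain ⟨t', ht'⟩ := (IsLocalization.eq_iff_exists q.primeCompl D).1 h2
  refine (t' * t).2 (hIq ⟨t' * a, ?_⟩)
  show algebraMap C CK (t' * a) = ((t' : C) * t) • IsLocalization.mk' CK c m
  rw [Algebra.smul_def, IsLocalization.mul_mk'_eq_mk'_of_mul, eq_comm, IsLocalization.mk'_eq_iff_eq_mul, ← map_mul]
  congr 1
  linear_combination ht'

variable {R : Type u} [CommRing R] [IsDedekindDomain R] {B : Type u} [CommRing B] [Algebra R B] [Algebra.IsIntegral R B]

/-- A map from the generic fibre of a smooth scheme to an integral affine scheme extends. -/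
theorem exists_extend_affine {Z : Scheme.{u}} (p : Z ⟶ Spec (CommRingCat.of R)) [Smooth p]
    (hZ : Pi1.IsNormalScheme Z) (h : pullback p (Neron.genPt R) ⟶ Spec (CommRingCat.of B))
    (w : h ≫ Spec.map (CommRingCat.ofHom (algebraMap R B)) = pullback.fst p (Neron.genPt R) ≫ p) :
    ∃ g : Z ⟶ Spec (CommRingCat.of B), g ≫ Spec.map (CommRingCat.ofHom (algebraMap R B)) = p ∧
      pullback.fst p (Neron.genPt R) ≫ g = h := by
  let π := Spec.map (CommRingCat.ofHom (algebraMap R B))
  let d := pullback.fst p (Neron.genPt R)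
  haveI : IsReduced Z := by
    haveI : ∀ z : Z, _root_.IsReduced (Z.presheaf.stalk z) := fun z => by
      haveI := (hZ z).1
      infer_instance
    exact isReduced_of_isReduced_stalk Z
  have key : ∀ V : Z.affineOpens, ∃ g : V.1.toScheme ⟶ Spec (CommRingCat.of B), g ≫ π = V.1.ι ≫ p ∧
      pullback.fst (V.1.ι ≫ p) (Neron.genPt R) ≫ g =
        pullback.map (V.1.ι ≫ p) (Neron.genPt R) p (Neron.genPt R) V.1.ι (𝟙 _) (𝟙 _) (by simp) (by simp) ≫ h := by
    rintro ⟨V, hV⟩
    let C := Γ(Z, V)
    let q := hV.fromSpec ≫ p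
    letI : Algebra R C := (Spec.preimage q).hom.toAlgebra
    have hq : Spec.map (CommRingCat.ofHom (algebraMap R C)) = q := Spec.map_preimage q
    haveI : Module.Flat R C := by
      haveI : Flat (Spec.map (CommRingCat.ofHom (algebraMap R C))) := by rw [hq]; infer_instance
      exact (RingHom.flat_algebraMap_iff (R := R) (S := C)).1 ((HasRingHomProperty.Spec_iff (P := @Flat)).1 this)
    let CK := C ⊗[R] FractionRing R
    have hp : IsPullback (Spec.map (CommRingCat.ofHom (Algebra.TensorProduct.includeLeftRingHom : C →+* CK)))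
        (Spec.map (CommRingCat.ofHom (Algebra.TensorProduct.includeRight.toRingHom : FractionRing R →+* CK)))
        q (Neron.genPt R) := by
      rw [← hq]
      exact isPullback_SpecMap_of_isPushout _ _ _ _ (CommRingCat.isPushout_tensorProduct R C (FractionRing R))
    let m : Spec (CommRingCat.of CK) ⟶ pullback p (Neron.genPt R) := pullback.lift
      (Spec.map (CommRingCat.ofHom (Algebra.TensorProduct.includeLeftRingHom : C →+* CK)) ≫ hV.fromSpec)
      (Spec.map (CommRingCat.ofHom (Algebra.TensorProduct.includeRight.toRingHom : FractionRing R →+* CK)))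
      (by rw [Category.assoc]; exact hp.w)
    let η := Spec.preimage (m ≫ h)
    have hη : CommRingCat.ofHom (algebraMap R B) ≫ η =
        CommRingCat.ofHom (algebraMap R C) ≫ CommRingCat.ofHom (Algebra.TensorProduct.includeLeftRingHom : C →+* CK) := by
      refine Spec.map_injective ?_
      rw [Spec.map_comp, Spec.map_comp, Spec.map_preimage, hq, Category.assoc, w, ← Category.assoc,
        pullback.lift_fst, Category.assoc]
    have hM : Algebra.algebraMapSubmonoid C (nonZeroDivisors R) ≤ nonZeroDivisors C := by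
      rintro _ ⟨r, hr, rfl⟩
      refine mem_nonZeroDivisors_iff_right.2 fun c hc => ?_
      have h0 : r • c = 0 := by rw [Algebra.smul_def, mul_comm]; exact hc
      haveI : Module.IsTorsionFree R C := inferInstance
      exact (smul_eq_zero.1 h0).resolve_left (nonZeroDivisors.ne_zero hr)
    have hint : ∀ b, ∃ c : C, algebraMap C CK c = η b := fun b => by
      refine exists_eq_of_isIntegral_localization (Algebra.algebraMapSubmonoid C (nonZeroDivisors R))
        (NormalExt19.isNormalRing_of_isNormalScheme hZ hV) hM ?_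
      obtain ⟨P, hP, hP0⟩ := Algebra.IsIntegral.isIntegral (R := R) b
      refine ⟨P.map (algebraMap R C), hP.map _, ?_⟩
      rw [Polynomial.eval₂_map, show (algebraMap C CK).comp (algebraMap R C) = η.hom.comp (algebraMap R B) from
        (congrArg CommRingCat.Hom.hom hη).symm, ← Polynomial.hom_eval₂, hP0, map_zero]
    have hinj : Function.Injective (algebraMap C CK) :=
      IsLocalization.injective CK hM
    choose ψ hψ using hint
    let ψ' : B →+* C :=
      { toFun := ψ
        map_one' := hinj (by rw [hψ, map_one, map_one])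
        map_mul' := fun x y => hinj (by rw [hψ, map_mul, map_mul, hψ, hψ])
        map_zero' := hinj (by rw [hψ, map_zero, map_zero])
        map_add' := fun x y => hinj (by rw [hψ, map_add, map_add, hψ, hψ]) }
    refine ⟨hV.isoSpec.hom ≫ Spec.map (CommRingCat.ofHom ψ'), ?_, ?_⟩
    · have hψR : CommRingCat.ofHom (algebraMap R B) ≫ CommRingCat.ofHom ψ' = CommRingCat.ofHom (algebraMap R C) :=
        CommRingCat.hom_ext (RingHom.ext fun r => hinj ((hψ _).trans (ConcreteCategory.congr_hom hη r)))
      rw [Category.assoc, ← Spec.map_comp, hψR, hq, ← Category.assoc, hV.isoSpec_hom_fromSpec]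
    · have hηψ : CommRingCat.ofHom ψ' ≫ CommRingCat.ofHom (algebraMap C CK) = η := CommRingCat.hom_ext (RingHom.ext hψ)
      let e : pullback (V.ι ≫ p) (Neron.genPt R) ⟶ Spec (CommRingCat.of CK) :=
        hp.lift (pullback.fst _ _ ≫ hV.isoSpec.hom) (pullback.snd _ _)
          (by rw [Category.assoc, ← pullback.condition]; congr 1; rw [← Category.assoc, hV.isoSpec_hom_fromSpec])
      have he : e ≫ m = pullback.map (V.ι ≫ p) (Neron.genPt R) p (Neron.genPt R) V.ι (𝟙 _) (𝟙 _) (by simp) (by simp) := by
        refine pullback.hom_ext ?_ ?_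
        · rw [Category.assoc, pullback.lift_fst, hp.lift_fst_assoc, Category.assoc, hV.isoSpec_hom_fromSpec, pullback.lift_fst]
        · rw [Category.assoc, pullback.lift_snd, hp.lift_snd, pullback.lift_snd, Category.comp_id]
      rw [← he, Category.assoc, ← Spec.map_preimage (m ≫ h), show Spec.preimage (m ≫ h) = η from rfl, ← hηψ,
        Spec.map_comp, show CommRingCat.ofHom (algebraMap C CK) =
          CommRingCat.ofHom (Algebra.TensorProduct.includeLeftRingHom : C →+* CK) from rfl,
        hp.lift_fst_assoc, Category.assoc]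
  choose g hg hd using key
  have hdom : ∀ {W : Scheme.{u}} (r : W ⟶ Spec (CommRingCat.of R)) [Flat r],
      IsDominant (pullback.fst r (Neron.genPt R)) := fun {W} r _ => by
    haveI : IsSchemeTheoreticallyDominant (pullback.fst r (Neron.genPt R)) :=
      haveI : Flat (Over.mk r).hom := ‹Flat r›
      NeronElem.dominant_fst R (Over.mk r)
    infer_instance
  let 𝒰 : Z.OpenCover := Z.openCoverOfIsOpenCover (fun V : Z.affineOpens => V.1)
    (iSup_affineOpens_eq_top Z)
  have hcompat : ∀ i j : Z.affineOpens, pullback.fst i.1.ι j.1.ι ≫ g i = pullback.snd i.1.ι j.1.ι ≫ g j := by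
    intro i j
    let P := pullback i.1.ι j.1.ι
    haveI : IsReduced P := isReduced_of_isOpenImmersion (pullback.fst i.1.ι j.1.ι ≫ i.1.ι)
    let r := pullback.fst i.1.ι j.1.ι ≫ i.1.ι ≫ p
    haveI := hdom r
    haveI : IsSeparated π := inferInstance
    have hj : pullback.snd i.1.ι j.1.ι ≫ j.1.ι ≫ p = r := (pullback.condition_assoc p).symm
    refine ext_of_isDominant_of_isSeparated π ?_ (pullback.fst r (Neron.genPt R)) ?_
    · rw [Category.assoc, Category.assoc, hg, hg, hj]
    · let a : pullback r (Neron.genPt R) ⟶ pullback (i.1.ι ≫ p) (Neron.genPt R) :=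
        pullback.map _ _ _ _ (pullback.fst i.1.ι j.1.ι) (𝟙 _) (𝟙 _) (by simp [r]) (by simp)
      let b : pullback r (Neron.genPt R) ⟶ pullback (j.1.ι ≫ p) (Neron.genPt R) :=
        pullback.map _ _ _ _ (pullback.snd i.1.ι j.1.ι) (𝟙 _) (𝟙 _) (by rw [Category.comp_id, hj]) (by simp)
      have ea : a ≫ pullback.fst (i.1.ι ≫ p) (Neron.genPt R) =
          pullback.fst r (Neron.genPt R) ≫ pullback.fst i.1.ι j.1.ι := pullback.lift_fst _ _ _
      have eb : b ≫ pullback.fst (j.1.ι ≫ p) (Neron.genPt R) =
          pullback.fst r (Neron.genPt R) ≫ pullback.snd i.1.ι j.1.ι := pullback.lift_fst _ _ _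
      rw [← reassoc_of% ea, ← reassoc_of% eb, hd i, hd j, ← Category.assoc, ← Category.assoc]
      congr 1
      apply pullback.hom_ext
      · simp only [a, b, Category.assoc, pullback.map, pullback.lift_fst, pullback.lift_fst_assoc, pullback.condition]
      · simp only [a, b, Category.assoc, pullback.map, pullback.lift_snd, pullback.lift_snd_assoc, Category.comp_id]
  let G := 𝒰.glueMorphisms g hcompat
  have hG : ∀ i : Z.affineOpens, i.1.ι ≫ G = g i := fun i => Scheme.Cover.ι_glueMorphisms 𝒰 g hcompat i
  refine ⟨G, Scheme.Cover.hom_ext 𝒰 _ _ fun i => ?_, ?_⟩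
  · show i.1.ι ≫ G ≫ π = i.1.ι ≫ p
    rw [← Category.assoc, hG, hg]
  · refine Scheme.Cover.hom_ext (𝒰.pullback₁ d) _ _ fun i => ?_
    show pullback.fst d i.1.ι ≫ d ≫ G = pullback.fst d i.1.ι ≫ h
    let c : pullback d i.1.ι ⟶ pullback (i.1.ι ≫ p) (Neron.genPt R) :=
      pullback.lift (pullback.snd d i.1.ι) (pullback.fst d i.1.ι ≫ pullback.snd p (Neron.genPt R))
        (by rw [← pullback.condition_assoc, Category.assoc, pullback.condition])
    have hc : c ≫ pullback.map (i.1.ι ≫ p) (Neron.genPt R) p (Neron.genPt R) i.1.ι (𝟙 _) (𝟙 _) (by simp) (by simp) =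
        pullback.fst d i.1.ι := by
      apply pullback.hom_ext
      · rw [Category.assoc, pullback.lift_fst, pullback.lift_fst_assoc, pullback.condition]
      · rw [Category.assoc, pullback.lift_snd, Category.comp_id, pullback.lift_snd]
    have ec : c ≫ pullback.fst (i.1.ι ≫ p) (Neron.genPt R) = pullback.snd d i.1.ι := pullback.lift_fst _ _ _
    rw [pullback.condition_assoc, hG, ← reassoc_of% ec, ← hc, Category.assoc, hd i]

end Groth.Agent.NeronEt19
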